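import Groth.Agent.FunFld.AdjCoeff.Finite

/-! Reduction of a place of a plane curve to a finite point of a monic equation. -/

namespace Groth.Agent.FunFld.AdjCoeff

open _root_.FunFld WithZero
open MvPolynomial (pderiv)

variable {k K : Type*} [Field k] [IsAlgClosed k] [Field K] [Algebra k K]

omit [IsAlgClosed k] in
theorem aeval_pderiv_homogLift (ψ : Fin 3 → K) (hψ : ψ 0 = 1) (i : Fin 2) (f : MvPolynomial (Fin 2) k) :
    MvPolynomial.aeval ψ (pderiv i.succ (homogLift f)) = MvPolynomial.aeval (fun l => ψ l.succ) (pderiv i f) := by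
  classical
  conv_rhs => rw [f.as_sum, map_sum, map_sum]
  rw [homogLift, map_sum, map_sum]
  refine Finset.sum_congr rfl fun m _ => ?_
  rw [Derivation.leibniz, Derivation.leibniz_pow, MvPolynomial.pderiv_X_of_ne (Fin.succ_ne_zero i).symm,
    MvPolynomial.pderiv_rename (Fin.succ_injective 2)]
  simp [hψ, MvPolynomial.aeval_rename, Function.comp_def]

omit [IsAlgClosed k] in
theorem totalDegree_aeval_one_le {g : MvPolynomial (Fin 3) k} :
    (MvPolynomial.aeval (Fin.cases (1 : MvPolynomial (Fin 2) k) MvPolynomial.X) g).totalDegree ≤ g.totalDegree := by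
  classical
  conv_lhs => rw [g.as_sum, map_sum]
  refine MvPolynomial.totalDegree_finsetSum_le fun m hm => ?_
  rw [MvPolynomial.aeval_monomial, Finsupp.prod_fintype _ _ (fun _ => pow_zero _), Fin.prod_univ_three]
  refine (MvPolynomial.totalDegree_mul _ _).trans ?_
  rw [MvPolynomial.algebraMap_eq, MvPolynomial.totalDegree_C, zero_add]
  have h0 : (Fin.cases (motive := fun _ => MvPolynomial (Fin 2) k) 1 MvPolynomial.X 0) = 1 := rfl
  rw [h0, one_pow, one_mul]
  refine (MvPolynomial.totalDegree_mul _ _).trans ?_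
  have h1 : m 1 + m 2 ≤ g.totalDegree := by
    have h := MvPolynomial.le_totalDegree hm
    rw [Finsupp.sum_fintype _ _ (fun _ => rfl), Fin.sum_univ_three] at h
    omega
  refine le_trans (add_le_add ((MvPolynomial.totalDegree_pow _ _).trans ?_)
    ((MvPolynomial.totalDegree_pow _ _).trans ?_)) h1
  · show m 1 * (MvPolynomial.X (0 : Fin 2) : MvPolynomial (Fin 2) k).totalDegree ≤ m 1
    rw [MvPolynomial.totalDegree_X, mul_one]
  · show m 2 * (MvPolynomial.X (1 : Fin 2) : MvPolynomial (Fin 2) k).totalDegree ≤ m 2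
    rw [MvPolynomial.totalDegree_X, mul_one]

omit [IsAlgClosed k] in
theorem irreducible_homogLift (hK : IsFunctionField k K) {x y : K}
    (hxy : IntermediateField.adjoin k ({x, y} : Set K) = ⊤) {f : MvPolynomial (Fin 2) k} (hf : Irreducible f)
    (hfxy : MvPolynomial.aeval ![x, y] f = 0) : Irreducible (homogLift f) := by
  obtain ⟨g, hg, hghom, hker⟩ := exists_ker_cone_eq_span hK x y hxy
  have hψ : (fun i : Fin 2 => ![(1 : K), x, y] i.succ) = ![x, y] := by funext i; fin_cases i <;> rfl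
  have hF : MvPolynomial.aeval ![(1 : K), x, y] (homogLift f) = 0 := by
    rw [aeval_homogLift (k := k) ![(1 : K), x, y] rfl, hψ, hfxy]
  obtain ⟨q, hq⟩ := Ideal.mem_span_singleton.1 (hker ▸ (RingHom.mem_ker.2
    (coneHom_eq_zero_of_homogeneous _ (isHomogeneous_homogLift f) hF) :
      homogLift f ∈ RingHom.ker (coneHom (k := k) ![(1 : K), x, y])))
  set dh := MvPolynomial.aeval (R := k) (Fin.cases (1 : MvPolynomial (Fin 2) k) MvPolynomial.X) with hdh
  have hdf : dh (homogLift f) = f := by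
    rw [hdh, aeval_homogLift _ (by simp) f]
    simp [MvPolynomial.aeval_X_left_apply]
  have hgx : MvPolynomial.aeval ![x, y] (dh g) = 0 := by
    have h : g ∈ RingHom.ker (coneHom (k := k) ![(1 : K), x, y]) := hker ▸ Ideal.mem_span_singleton_self g
    have h1 := (coneHom_eq_zero_iff _ _).1 h g.totalDegree
    rw [MvPolynomial.homogeneousComponent_of_mem hghom, if_pos rfl] at h1
    rw [hdh, ← AlgHom.comp_apply, MvPolynomial.comp_aeval, ← h1]
    congr 2
    funext i
    refine Fin.cases ?_ (fun l => ?_) i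
    · simp
    · simp only [Fin.cases_succ, MvPolynomial.aeval_X]
      fin_cases l <;> rfl
  have hnu : ¬ IsUnit (dh g) := fun h => (h.map (MvPolynomial.aeval (R := k) ![x, y])).ne_zero hgx
  have hf0 : f = dh g * dh q := by rw [← map_mul, ← hq, hdf]
  have hu := (hf.isUnit_or_isUnit hf0).resolve_left hnu
  obtain ⟨r, hr, hrq⟩ := MvPolynomial.isUnit_iff_eq_C_of_isReduced.1 hu
  have hd1 : f.totalDegree ≤ g.totalDegree := by
    rw [hf0, hrq]
    refine (MvPolynomial.totalDegree_mul _ _).trans ?_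
    rw [MvPolynomial.totalDegree_C, add_zero]
    exact totalDegree_aeval_one_le
  have hF0 : homogLift f ≠ 0 := fun h => hf.ne_zero (by rw [← hdf, h, map_zero])
  have hq0 : q ≠ 0 := fun h => hF0 (by rw [hq, h, mul_zero])
  have h2 := MvPolynomial.totalDegree_mul_of_isDomain hg.ne_zero hq0
  rw [← hq, (isHomogeneous_homogLift f).totalDegree hF0] at h2
  have hqC := MvPolynomial.totalDegree_eq_zero_iff_eq_C.1 (show q.totalDegree = 0 by omega)
  rw [hq, mul_comm, hqC, irreducible_isUnit_mul]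
  · exact hg
  · refine MvPolynomial.isUnit_iff_eq_C_of_isReduced.2 ⟨_, isUnit_iff_ne_zero.2 fun h => hq0 ?_, rfl⟩
    rw [hqC, h, map_zero]

/-- A linear substitution. -/
noncomputable def linSub (A : Matrix (Fin 3) (Fin 3) k) : MvPolynomial (Fin 3) k →ₐ[k] MvPolynomial (Fin 3) k :=
  MvPolynomial.aeval fun i : Fin 3 => ∑ j, MvPolynomial.C (A i j) * MvPolynomial.X j

omit [IsAlgClosed k] in
theorem linSub_comp (A B : Matrix (Fin 3) (Fin 3) k) : (linSub B).comp (linSub A) = linSub (A * B) := by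
  refine MvPolynomial.algHom_ext fun i => ?_
  simp only [AlgHom.comp_apply, linSub, MvPolynomial.aeval_X, map_sum, map_mul, MvPolynomial.algHom_C,
    MvPolynomial.algebraMap_eq, Matrix.mul_apply, Finset.mul_sum, Finset.sum_mul]
  rw [Finset.sum_comm]
  exact Finset.sum_congr rfl fun j _ => Finset.sum_congr rfl fun l _ => by ring

omit [IsAlgClosed k] in
theorem linSub_one : linSub (1 : Matrix (Fin 3) (Fin 3) k) = AlgHom.id k _ := by
  refine MvPolynomial.algHom_ext fun i => ?_
  simp [linSub, Matrix.one_apply]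

omit [IsAlgClosed k] in
theorem irreducible_linSub {A : Matrix (Fin 3) (Fin 3) k} (hA : A.det ≠ 0) {g : MvPolynomial (Fin 3) k}
    (hg : Irreducible g) : Irreducible (linSub A g) := by
  have hu : IsUnit A.det := isUnit_iff_ne_zero.2 hA
  let E : MvPolynomial (Fin 3) k ≃ₐ[k] MvPolynomial (Fin 3) k := AlgEquiv.ofAlgHom (linSub A) (linSub A⁻¹)
    (by rw [linSub_comp, Matrix.nonsing_inv_mul A hu, linSub_one])
    (by rw [linSub_comp, Matrix.mul_nonsing_inv A hu, linSub_one])
  exact (MulEquiv.irreducible_iff E.toMulEquiv).2 hg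

/-- A point off the curve at which a given linear form does not vanish. -/
theorem exists_good_point {g : MvPolynomial (Fin 3) k} (hg : g ≠ 0) (v : Fin 3 → K) (hv : v 2 ≠ 0) :
    ∃ p : Fin 3 → k, MvPolynomial.eval p g ≠ 0 ∧ ∑ i, algebraMap k K (p i) * v i ≠ 0 := by
  classical
  obtain ⟨p0, hp0⟩ : ∃ p : Fin 3 → k, MvPolynomial.eval p g ≠ 0 := by
    by_contra h
    push Not at h
    exact hg (MvPolynomial.funext fun p => by simp [h p])
  set line : Fin 3 → Polynomial k := ![Polynomial.C (p0 0), Polynomial.C (p0 1), Polynomial.C (p0 2) + Polynomial.X]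
  set s := MvPolynomial.aeval line g with hs
  have hev : ∀ a : k, s.eval a = MvPolynomial.eval ![p0 0, p0 1, p0 2 + a] g := by
    intro a
    rw [hs, ← Polynomial.coe_aeval_eq_eval, ← AlgHom.comp_apply, MvPolynomial.comp_aeval,
      ← MvPolynomial.coe_aeval_eq_eval]
    show MvPolynomial.aeval _ g = MvPolynomial.aeval _ g
    congr 2
    funext i; fin_cases i <;> simp [line]
  have hs0 : s ≠ 0 := fun h => hp0 (by
    have h1 := hev 0
    rw [h, Polynomial.eval_zero, add_zero] at h1
    rw [h1]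
    congr 2
    funext i; fin_cases i <;> rfl)
  set c := ∑ i, algebraMap k K (p0 i) * v i
  set bad : Set k := {a | s.eval a = 0} ∪ {a | c + algebraMap k K a * v 2 = 0}
  have hbad : bad.Finite := by
    refine (Polynomial.finite_setOf_isRoot hs0).union (Set.Subsingleton.finite fun a ha b hb => ?_)
    simp only [Set.mem_setOf_eq] at ha hb
    refine (algebraMap k K).injective (mul_right_cancel₀ hv ?_)
    linear_combination ha - hb
  obtain ⟨a, ha⟩ := hbad.infinite_compl.nonempty
  simp only [bad, Set.mem_compl_iff, Set.mem_union, Set.mem_setOf_eq, not_or] at ha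
  refine ⟨![p0 0, p0 1, p0 2 + a], by rw [← hev]; exact ha.1, fun h => ha.2 ?_⟩
  rw [← h]
  simp [c, Fin.sum_univ_three]
  ring

omit [IsAlgClosed k] in
theorem exists_frame (c p : Fin 3 → k) (j : Fin 3) (hcj : c j = 1) (h : ∀ r : k, (fun i => r * c i) ≠ p) :
    ∃ A : Matrix (Fin 3) (Fin 3) k, A.det ≠ 0 ∧ (∀ i, A i 0 = c i) ∧ ∀ i, A i 2 = p i := by
  obtain ⟨m, hm⟩ : ∃ m, p j * c m ≠ p m := by
    by_contra hcon
    push Not at hcon
    exact h (p j) (funext hcon)
  refine ⟨Matrix.of fun i l => ![c i, if i = -(j + m) then 1 else 0, p i] l, fun hd => hm ?_,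
    fun i => rfl, fun i => rfl⟩
  fin_cases j <;> fin_cases m <;> simp +decide [Matrix.det_fin_three] at hd hcj ⊢ <;>
    simp +decide [hcj] at hd ⊢ <;> first
    | linear_combination hd
    | linear_combination -hd
    | ring

omit [IsAlgClosed k] in
theorem inLocRing_scale {ι : Type*} {φ ψ : ι → K} {a : K} (ha : a ≠ 0) (h : ∀ i, ψ i = a * φ i) (Q : Place k K)
    (z : K) : InLocRing ψ Q z ↔ InLocRing φ Q z := by
  have hle : ∀ i j, Q.1 (ψ i) ≤ Q.1 (ψ j) ↔ Q.1 (φ i) ≤ Q.1 (φ j) := fun i j => by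
    rw [h, h, map_mul, map_mul, mul_le_mul_iff_right₀ (zero_lt_iff.2 (by simpa using ha))]
  have hr : ∀ j, (fun i => ψ i / ψ j) = fun i => φ i / φ j := fun j => funext fun i => by
    rw [h, h, mul_div_mul_left _ _ ha]
  refine exists_congr fun j => ?_
  rw [hr j, h j]
  simp only [mul_ne_zero_iff, ne_eq, ha, not_false_eq_true, true_and, hle]
  rw [← h j]
  simp only [hle]

theorem adjoint_coeff (hK : IsFunctionField k K) {x y : K}
    (hxy : IntermediateField.adjoin k ({x, y} : Set K) = ⊤) {f : MvPolynomial (Fin 2) k} (hf : Irreducible f)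
    (hfxy : MvPolynomial.aeval ![x, y] f = 0) (Q : Place k K) (ΦQ : K →ₐ[k] LaurentSeries k)
    (hΦQ : LocRes.IsExpansionAt Q.1 ΦQ)
    (hne : LocRes.vDiff ΦQ (MvPolynomial.aeval ![x, y] (pderiv 1 f))⁻¹ x ≠ 0) :
    0 ≤ ((mapDiv k ![(1 : K), x, y]).deg - 3) * mapDiv k ![(1 : K), x, y] Q -
        LocRes.ordDiff ΦQ (MvPolynomial.aeval ![x, y] (pderiv 1 f))⁻¹ x ∧
    (((mapDiv k ![(1 : K), x, y]).deg - 3) * mapDiv k ![(1 : K), x, y] Q -
        LocRes.ordDiff ΦQ (MvPolynomial.aeval ![x, y] (pderiv 1 f))⁻¹ x = 0 ↔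
      IsNonsingularAt ![(1 : K), x, y] Q) := by
  classical
  obtain ⟨t, ht⟩ := exists_val Q (-1)
  obtain ⟨H, hH⟩ := exists_hasse_at hK ht
  set D := hasseDer hH with hD
  set φ : Fin 3 → K := ![(1 : K), x, y] with hφdef
  set e := f.totalDegree with hedef
  set F := homogLift f
  have hψ : (fun i : Fin 2 => φ i.succ) = ![x, y] := by funext i; fin_cases i <;> rfl
  have hFrel : MvPolynomial.aeval φ F = 0 := by rw [aeval_homogLift (k := k) φ rfl, hψ, hfxy]
  have hFhom : F.IsHomogeneous e := isHomogeneous_homogLift f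
  have hFirr : Irreducible F := irreducible_homogLift hK hxy hf hfxy
  have hFy : MvPolynomial.aeval φ (pderiv 2 F) = MvPolynomial.aeval ![x, y] (pderiv 1 f) := by
    rw [show (2 : Fin 3) = (1 : Fin 2).succ from rfl, aeval_pderiv_homogLift φ rfl, hψ]
  rw [vDiff_eq hK ht hH hΦQ, Ne, map_eq_zero, mul_eq_zero, not_or, inv_eq_zero, ← hFy] at hne
  obtain ⟨hfy, hDx⟩ := hne
  rw [← hasseDer_apply hH, ← hD] at hDx
  rw [ordDiff_eq hK ht hH hΦQ, ← hFy, ← hasseDer_apply hH, ← hD]
  -- the point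
  obtain ⟨j, -, hj⟩ := Finset.exists_max_image Finset.univ (fun i => Q.1 (φ i)) Finset.univ_nonempty
  replace hj : ∀ i, Q.1 (φ i) ≤ Q.1 (φ j) := fun i => hj i (Finset.mem_univ i)
  have hj0 : φ j ≠ 0 := fun h => by
    have h1 := hj 0
    rw [h, map_zero, show φ 0 = 1 from rfl, map_one] at h1
    exact not_lt.2 h1 zero_lt_one
  obtain ⟨c, hc⟩ := exists_consts hK hj0 hj
  have hlt : (exp (-1) : WithZero (Multiplicative ℤ)) < 1 := by rw [← exp_zero, exp_lt_exp]; omega
  have hcj : c j = 1 := by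
    refine const_unique Q (z := (1 : K)) ?_ (by simp)
    have := hc j
    rw [div_self hj0] at this
    exact this.trans_lt hlt
  have hFc : MvPolynomial.eval c F = 0 :=
    eval_eq_zero_of_rel hc (by rw [rel_of_homogeneous hj0 hFhom hFrel, map_zero]; exact zero_lt_one)
  -- the frame
  obtain ⟨p, hpF, hps⟩ := exists_good_point hFirr.ne_zero (fun l => MvPolynomial.aeval φ (pderiv l F)) hfy
  have hpind : ∀ r : k, (fun i => r * c i) ≠ p := by
    intro r hr
    apply hpF
    have h := CoordChange.aeval_mul_left (A := k) (hg := hFhom) r c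
    rw [← hr, ← MvPolynomial.coe_aeval_eq_eval]
    show MvPolynomial.aeval _ F = 0
    have h2 : MvPolynomial.aeval c F = 0 := by rw [← hFc, ← MvPolynomial.coe_aeval_eq_eval]; rfl
    rw [h, h2, mul_zero]
  obtain ⟨A, hA, hA0, hA2⟩ := exists_frame c p j hcj hpind
  have hdu : IsUnit A.det := isUnit_iff_ne_zero.2 hA
  set u : Fin 3 → K := fun l => ∑ i, algebraMap k K (A⁻¹ l i) * φ i with hudef
  have hu : ∀ i, ∑ l, algebraMap k K (A i l) * u l = φ i := by
    intro i
    have h : (A.map (algebraMap k K)).mulVec ((A⁻¹.map (algebraMap k K)).mulVec φ) = φ := by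
      rw [Matrix.mulVec_mulVec, ← Matrix.map_mul, Matrix.mul_nonsing_inv A hdu,
        Matrix.map_one _ (map_zero _) (map_one _), Matrix.one_mulVec]
    exact congrFun h i
  have hval : ∀ l, Q.1 (u l / φ j - algebraMap k K ((1 : Matrix (Fin 3) (Fin 3) k) l 0)) ≤ exp (-1) := by
    intro l
    have e1 : u l / φ j - algebraMap k K ((1 : Matrix (Fin 3) (Fin 3) k) l 0) =
        ∑ i, algebraMap k K (A⁻¹ l i) * (φ i / φ j - algebraMap k K (c i)) := by
      simp only [hudef, Finset.sum_div, mul_div_assoc, mul_sub, Finset.sum_sub_distrib, ← map_mul, ← map_sum,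
        ← Matrix.nonsing_inv_mul A hdu, Matrix.mul_apply, hA0]
    rw [e1]
    exact Q.1.map_sum_le fun i _ => by
      rw [map_mul]; exact (mul_le_mul' (Q.2.1 _) (hc i)).trans_eq (one_mul _)
  have hu0v : Q.1 (u 0 / φ j) = 1 := by
    have h := hval 0
    rw [Matrix.one_apply_eq, map_one] at h
    rw [show u 0 / φ j = 1 + (u 0 / φ j - 1) by ring, Valuation.map_add_eq_of_lt_left, map_one]
    rw [map_one]; exact h.trans_lt hlt
  have hu0 : u 0 ≠ 0 := fun h => by simp [h] at hu0v
  have hu00 : Q.1 (u 0) = Q.1 (φ j) := by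
    rwa [map_div₀, div_eq_one_iff_eq (by simpa using hj0)] at hu0v
  have hsmall : ∀ l : Fin 3, l ≠ 0 → Q.1 (u l / u 0) < 1 := fun l hl => by
    have h := hval l
    rw [Matrix.one_apply_ne hl, map_zero, sub_zero, map_div₀, ← hu00, ← map_div₀] at h
    exact h.trans_lt hlt
  set x' := u 1 / u 0 with hx'
  set y' := u 2 / u 0 with hy'
  set φ' : Fin 3 → K := ![(1 : K), x', y'] with hφ'
  have hv : ∀ l, u l = u 0 * φ' l := fun l => by
    fin_cases l <;> simp [hφ', hx', hy', mul_div_cancel₀ _ hu0]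
  set F' := linSub A F with hF'
  have hF'hom : F'.IsHomogeneous e := by
    have h := hFhom.aeval (fun i : Fin 3 => ∑ l, MvPolynomial.C (A i l) * MvPolynomial.X l) (n := 1)
      fun i => MvPolynomial.IsHomogeneous.sum _ _ _ fun l _ => by
        simpa using (MvPolynomial.isHomogeneous_C (Fin 3) (A i l)).mul (MvPolynomial.isHomogeneous_X k l)
    rwa [one_mul] at h
  have hlin : (fun i : Fin 3 => MvPolynomial.aeval φ' (∑ l, MvPolynomial.C (A i l) * MvPolynomial.X l)) =
      fun i => (u 0)⁻¹ * φ i := by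
    funext i
    rw [← hu i, map_sum, Finset.mul_sum]
    refine Finset.sum_congr rfl fun l _ => ?_
    rw [map_mul, MvPolynomial.aeval_C, MvPolynomial.aeval_X, hv l]
    field_simp
  have hF'rel : MvPolynomial.aeval φ' F' = 0 := by
    rw [hF', linSub, ← AlgHom.comp_apply, MvPolynomial.comp_aeval, hlin,
      CoordChange.aeval_mul_left hFhom, hFrel, mul_zero]
  have htop : MvPolynomial.eval ![0, 0, 1] F' ≠ 0 := by
    rw [← MvPolynomial.coe_aeval_eq_eval]
    show MvPolynomial.aeval (![0, 0, 1] : Fin 3 → k) F' ≠ 0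
    rw [hF', linSub, ← AlgHom.comp_apply, MvPolynomial.comp_aeval]
    have : (fun i : Fin 3 => MvPolynomial.aeval (![0, 0, 1] : Fin 3 → k)
        (∑ l, MvPolynomial.C (A i l) * MvPolynomial.X l)) = p := funext fun i => by
      simp [Fin.sum_univ_three, hA2]
    rw [this]
    exact hpF
  have hfy' : MvPolynomial.aeval φ' (pderiv 2 F') ≠ 0 := by
    rw [hF', linSub, CoordChange.derivation_aeval (pderiv 2), map_sum]
    simp only [smul_eq_mul, map_mul]
    simp only [← AlgHom.comp_apply (MvPolynomial.aeval φ') (MvPolynomial.aeval _), MvPolynomial.comp_aeval, hlin,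
      CoordChange.aeval_mul_left hFhom.pderiv]
    have h2 : ∀ i, MvPolynomial.aeval φ' (pderiv 2 (∑ l, MvPolynomial.C (A i l) * MvPolynomial.X l)) =
        algebraMap k K (p i) := fun i => by
      simp [Fin.sum_univ_three, MvPolynomial.pderiv_X, Pi.single_apply, hA2]
    simp only [h2]
    intro h
    refine mul_ne_zero (pow_ne_zero (e - 1) (inv_ne_zero hu0)) hps ?_
    rw [← h, Finset.mul_sum]
    exact Finset.sum_congr rfl fun i _ => by ring
  have hxy' : IntermediateField.adjoin k ({x', y'} : Set K) = ⊤ := by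
    rw [eq_top_iff, ← hxy, IntermediateField.adjoin_le_iff]
    set E := IntermediateField.adjoin k ({x', y'} : Set K)
    have hE : ∀ i, (u 0)⁻¹ * φ i ∈ E := fun i => by
      have := congrFun hlin i
      rw [← this, map_sum]
      refine sum_mem fun l _ => ?_
      rw [map_mul, MvPolynomial.aeval_C, MvPolynomial.aeval_X]
      refine mul_mem (E.algebraMap_mem _) ?_
      fin_cases l
      · exact one_mem E
      · exact IntermediateField.subset_adjoin k _ (Set.mem_insert _ _)
      · exact IntermediateField.subset_adjoin k _ (Set.mem_insert_of_mem _ rfl)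
    have hdiv : ∀ i, φ i ∈ E := fun i => by
      have h := div_mem (hE i) (hE 0)
      rwa [show φ 0 = 1 from rfl, mul_one, mul_comm, mul_div_cancel_right₀ _ (inv_ne_zero hu0)] at h
    rintro w (rfl | rfl)
    · exact hdiv 1
    · exact hdiv 2
  have hm : mapDiv k φ' = mapDiv k φ + div k (u 0) :=
    mapDiv_coord_change hK A hA φ u φ' rfl hu hu0 rfl hv
  have hdeg : (mapDiv k φ).deg = e := deg_plane hK hxy f hf hfxy
  have hdeg' : (mapDiv k φ').deg = e := by rw [hm, deg_add, hdeg, deg_div hK, add_zero]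
  have hord0 : Q.ord (u 0) = -mapDiv k φ Q := by
    obtain ⟨i, hi⟩ := exists_val_eq_exp_mapDiv hK φ (i₀ := 0) rfl Q
    have h1 : Q.1 (φ j) = exp (mapDiv k φ Q) :=
      le_antisymm (val_le_exp_mapDiv hK φ Q j) (hi ▸ hj i)
    rw [← hu00, val_eq_exp Q hu0, exp_inj] at h1
    omega
  -- the differential
  have hkey := congrArg D.liftKaehlerDifferential
    (CoordChange.main k K F e hFhom x y hFrel A u hu hu0 hfy hfy')
  rw [map_smul, map_smul, Derivation.liftKaehlerDifferential_comp_D, Derivation.liftKaehlerDifferential_comp_D,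
    smul_eq_mul, smul_eq_mul] at hkey
  change (MvPolynomial.aeval φ (pderiv 2 F))⁻¹ * D x = algebraMap k K A.det * (u 0)⁻¹ ^ ((e : ℤ) - 3) *
    (MvPolynomial.aeval φ' (pderiv 2 F'))⁻¹ * D x' at hkey
  have hDx' : D x' ≠ 0 := fun h => mul_ne_zero (inv_ne_zero hfy) hDx (by rw [hkey, h, mul_zero])
  obtain ⟨hle, hiff⟩ := finite_point hK hxy' hF'hom (irreducible_linSub hA hFirr) hF'rel htop hfy' hdeg' Q
    (hsmall 1 (by decide)) (hsmall 2 (by decide)) ht hH hDx'
  have hord : Q.ord ((MvPolynomial.aeval φ (pderiv 2 F))⁻¹ * D x) =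
      ((e : ℤ) - 3) * mapDiv k φ Q - Q.ord (MvPolynomial.aeval φ' (pderiv 2 F')) + Q.ord (D x') := by
    have hA' : algebraMap k K A.det ≠ 0 := by simpa using hA
    rw [hkey, ord_mul Q (mul_ne_zero (mul_ne_zero hA' (zpow_ne_zero _ (inv_ne_zero hu0))) (inv_ne_zero hfy')) hDx',
      ord_mul Q (mul_ne_zero hA' (zpow_ne_zero _ (inv_ne_zero hu0))) (inv_ne_zero hfy'),
      ord_mul Q hA' (zpow_ne_zero _ (inv_ne_zero hu0)), ord_algebraMap, ord_inv]
    have : Q.ord ((u 0)⁻¹ ^ ((e : ℤ) - 3)) = ((e : ℤ) - 3) * mapDiv k φ Q := by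
      rw [Place.ord, map_zpow₀, map_inv₀, WithZero.log_zpow, WithZero.log_inv, smul_eq_mul]
      have := hord0
      rw [Place.ord] at this
      linear_combination -((e : ℤ) - 3) * this
    rw [this]
    ring
  rw [hdeg, hord]
  have hinv : ∀ l, u l = ∑ i, algebraMap k K (A⁻¹ l i) * φ i := fun l => rfl
  have hns : IsNonsingularAt φ Q ↔ IsNonsingularAt φ' Q := by
    refine forall_congr' fun z => imp_congr_right fun _ => ?_
    rw [← inLocRing_scale hu0 hv]
    exact ⟨inLocRing_transfer (φ := u) (ψ := φ) (fun i l => A i l) (fun i => (hu i).symm) (fun l i => A⁻¹ l i) hinv,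
      inLocRing_transfer (φ := φ) (ψ := u) (fun l i => A⁻¹ l i) hinv (fun i l => A i l) fun i => (hu i).symm⟩
  rw [hns, ← hiff]
  refine ⟨by linarith, ⟨fun h => by linarith, fun h => by linarith⟩⟩

end Groth.Agent.FunFld.AdjCoeff
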