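import Groth.Agent.FunFld.Place
import Groth.Prelude.Def_W4bk4goldsch45
import Mathlib.Algebra.Polynomial.AlgebraMap
import Mathlib.Algebra.MvPolynomial.PDeriv
import Mathlib.RingTheory.MvPolynomial.Homogeneous
import Mathlib.Algebra.BigOperators.Field

/-! The local ring of a map at a place, and monic affine equations of plane curves. -/

namespace Groth.Agent.FunFld.AdjCoeff

open _root_.FunFld WithZero

variable {k K : Type*} [Field k] [Field K] [Algebra k K]

/-- The fractions of `R` with a denominator which is a unit at `Q`. -/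
def locAlg (R : Subalgebra k K) (Q : Place k K) : Subalgebra k K where
  carrier := {z | ∃ u ∈ R, ∃ w ∈ R, Q.1 w = 1 ∧ z * w = u}
  one_mem' := ⟨1, one_mem _, 1, one_mem _, map_one _, one_mul _⟩
  mul_mem' := by
    rintro a b ⟨u, hu, w, hw, hw1, h⟩ ⟨u', hu', w', hw', hw1', h'⟩
    exact ⟨u * u', mul_mem hu hu', w * w', mul_mem hw hw', by rw [map_mul, hw1, hw1', one_mul],
      by rw [← h, ← h']; ring⟩
  zero_mem' := ⟨0, zero_mem _, 1, one_mem _, map_one _, zero_mul _⟩
  add_mem' := by
    rintro a b ⟨u, hu, w, hw, hw1, h⟩ ⟨u', hu', w', hw', hw1', h'⟩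
    exact ⟨u * w' + u' * w, add_mem (mul_mem hu hw') (mul_mem hu' hw), w * w', mul_mem hw hw',
      by rw [map_mul, hw1, hw1', one_mul], by rw [← h, ← h']; ring⟩
  algebraMap_mem' c := ⟨algebraMap k K c, R.algebraMap_mem c, 1, one_mem _, map_one _, mul_one _⟩

theorem le_locAlg (R : Subalgebra k K) (Q : Place k K) : R ≤ locAlg R Q :=
  fun z hz => ⟨z, hz, 1, one_mem _, map_one _, mul_one _⟩

theorem div_mem_locAlg {R : Subalgebra k K} {Q : Place k K} {a b : K} (ha : a ∈ locAlg R Q)
    (hb : b ∈ locAlg R Q) (hb1 : Q.1 b = 1) : a / b ∈ locAlg R Q := by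
  obtain ⟨u, hu, w, hw, hw1, h⟩ := ha
  obtain ⟨u', hu', w', hw', hw1', h'⟩ := hb
  refine ⟨u * w', mul_mem hu hw', w * u', mul_mem hw hu', by rw [map_mul, hw1, ← h', map_mul, hb1, hw1', mul_one,
    one_mul], ?_⟩
  have hb0 : b ≠ 0 := fun e => by simp [e] at hb1
  rw [← h, ← h']
  field_simp

theorem locAlg_val_le {R : Subalgebra k K} {Q : Place k K} (hR : ∀ z ∈ R, Q.1 z ≤ 1) {z : K}
    (hz : z ∈ locAlg R Q) : Q.1 z ≤ 1 := by
  obtain ⟨u, hu, w, hw, hw1, h⟩ := hz
  have := hR u hu
  rwa [← h, map_mul, hw1, mul_one] at this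

/-- The local ring only depends on the span of the coordinates. -/
theorem inLocRing_transfer {ι ι' : Type*} [Fintype ι] [Fintype ι'] {φ : ι → K} {ψ : ι' → K} {Q : Place k K}
    (a : ι' → ι → k) (ha : ∀ i, ψ i = ∑ l, algebraMap k K (a i l) * φ l)
    (b : ι → ι' → k) (hb : ∀ i, φ i = ∑ l, algebraMap k K (b i l) * ψ l) {z : K}
    (hz : InLocRing ψ Q z) : InLocRing φ Q z := by
  classical
  obtain ⟨j', hj0', hj', u, hu, w, hw, hw1, hzw⟩ := hz
  have hne : Nonempty ι := by
    by_contra hcon
    rw [not_nonempty_iff] at hcon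
    exact hj0' (by rw [ha]; simp)
  obtain ⟨j, -, hj⟩ := Finset.exists_max_image Finset.univ (fun i => Q.1 (φ i)) Finset.univ_nonempty
  replace hj : ∀ i, Q.1 (φ i) ≤ Q.1 (φ j) := fun i => hj i (Finset.mem_univ i)
  have hsc : ∀ (c : k) (x : K), Q.1 (algebraMap k K c * x) ≤ Q.1 x := fun c x => by
    rw [map_mul]; exact (mul_le_mul' (Q.2.1 c) le_rfl).trans_eq (one_mul _)
  have e : Q.1 (ψ j') = Q.1 (φ j) := le_antisymm
    (by rw [ha]; exact Q.1.map_sum_le fun l _ => (hsc _ _).trans (hj l))
    (by rw [hb]; exact Q.1.map_sum_le fun l _ => (hsc _ _).trans (hj' l))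
  have hj0 : φ j ≠ 0 := fun h => hj0' ((map_eq_zero Q.1).1 (by rw [e, h, map_zero]))
  set R := Algebra.adjoin k (Set.range fun i => φ i / φ j)
  have hψ : ∀ i, ψ i / φ j ∈ locAlg R Q := fun i => le_locAlg R Q (by
    rw [ha, Finset.sum_div]
    exact sum_mem fun l _ => by
      rw [mul_div_assoc]
      exact mul_mem (R.algebraMap_mem _) (Algebra.subset_adjoin ⟨l, rfl⟩))
  have hle : Algebra.adjoin k (Set.range fun i => ψ i / ψ j') ≤ locAlg R Q := Algebra.adjoin_le (by
    rintro _ ⟨i, rfl⟩
    have h1 : Q.1 (ψ j' / φ j) = 1 := by rw [map_div₀, e, div_self (by simp [hj0])]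
    have := div_mem_locAlg (hψ i) (hψ j') h1
    rwa [div_div_div_cancel_right₀ hj0] at this)
  obtain ⟨u₁, hu₁, w₁, hw₁, hw11, h⟩ := div_mem_locAlg (hle hu) (hle hw) hw1
  refine ⟨j, hj0, hj, u₁, hu₁, w₁, hw₁, hw11, ?_⟩
  rw [← h, ← hzw, mul_div_cancel_right₀ _ (fun e => by simp [e] at hw1)]

section Poly

open MvPolynomial (pderiv)

/-- `(X₀, X₁, X₂) ↦ (1, X, Y)`. -/
noncomputable def affHom : MvPolynomial (Fin 3) k →ₐ[k] Polynomial (Polynomial k) :=
  MvPolynomial.aeval ![1, Polynomial.C Polynomial.X, Polynomial.X]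

theorem affHom_monomial (m : Fin 3 →₀ ℕ) (a : k) :
    affHom (MvPolynomial.monomial m a) =
      Polynomial.C (Polynomial.C a * Polynomial.X ^ m 1) * Polynomial.X ^ m 2 := by
  rw [affHom, MvPolynomial.aeval_monomial, Finsupp.prod_fintype _ _ (fun _ => pow_zero _), Fin.prod_univ_three]
  simp [Polynomial.algebraMap_apply, mul_assoc]

theorem affHom_top {g : MvPolynomial (Fin 3) k} {e : ℕ} (hg : g.IsHomogeneous e) :
    (affHom g).natDegree ≤ e ∧ (affHom g).coeff e = Polynomial.C (MvPolynomial.eval ![0, 0, 1] g) := by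
  classical
  have hdeg : ∀ m ∈ g.support, m 0 + m 1 + m 2 = e := fun m hm => by
    have h := hg.degree_eq_sum_deg_support hm
    rw [Finset.sum_subset (Finset.subset_univ m.support) (fun i _ hi => Finsupp.notMem_support_iff.1 hi),
      Fin.sum_univ_three] at h
    omega
  constructor
  · conv_lhs => rw [g.as_sum, map_sum]
    refine Polynomial.natDegree_sum_le_of_forall_le _ _ fun m hm => ?_
    rw [affHom_monomial]
    refine (Polynomial.natDegree_C_mul_le _ _).trans ((Polynomial.natDegree_X_pow_le _).trans ?_)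
    have := hdeg m hm
    omega
  · conv_rhs => rw [g.as_sum, map_sum, map_sum]
    conv_lhs => rw [g.as_sum, map_sum, Polynomial.finsetSum_coeff]
    refine Finset.sum_congr rfl fun m hm => ?_
    rw [affHom_monomial, Polynomial.coeff_C_mul, Polynomial.coeff_X_pow, MvPolynomial.eval_monomial,
      Finsupp.prod_fintype _ _ (fun _ => pow_zero _), Fin.prod_univ_three]
    have := hdeg m hm
    by_cases h : m 2 = e
    · rw [if_pos h.symm, mul_one, show m 0 = 0 by omega, show m 1 = 0 by omega]
      simp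
    · rw [if_neg (Ne.symm h), mul_zero]
      rcases Nat.eq_zero_or_pos (m 0) with h0 | h0
      · simp [zero_pow (show m 1 ≠ 0 by omega)]
      · simp [zero_pow h0.ne']

theorem affHom_derivative (g : MvPolynomial (Fin 3) k) :
    Polynomial.derivative (affHom g) = affHom (pderiv 2 g) := by
  induction g using MvPolynomial.induction_on with
  | C a => simp [affHom, Polynomial.algebraMap_apply]
  | add p q hp hq => simp [hp, hq]
  | mul_X p i hp =>
    rw [Derivation.leibniz, map_mul, Polynomial.derivative_mul, hp, map_add, smul_eq_mul, smul_eq_mul,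
      map_mul, map_mul]
    fin_cases i <;> simp [affHom, add_comm, mul_comm]

theorem aeval_affHom {K0 : Type*} [Field K0] [Algebra k K0] [Algebra K0 K] [IsScalarTower k K0 K] (x0 : K0)
    (y : K) (g : MvPolynomial (Fin 3) k) :
    Polynomial.aeval y ((affHom g).map (Polynomial.aeval (R := k) x0).toRingHom) =
      MvPolynomial.aeval ![1, algebraMap K0 K x0, y] g := by
  induction g using MvPolynomial.induction_on with
  | C a => simp [affHom, Polynomial.algebraMap_apply, ← IsScalarTower.algebraMap_apply]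
  | add p q hp hq => simp only [map_add, Polynomial.map_add, hp, hq]
  | mul_X p i hp =>
    simp only [map_mul, Polynomial.map_mul, hp]
    congr 1
    fin_cases i <;> simp [affHom]

end Poly

end Groth.Agent.FunFld.AdjCoeff
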