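import Groth.Agent.FunFld.AdjCoeff.LocalGen
import Groth.Agent.FunFld.AdjCoeff.Loc
import Groth.Agent.FunFld.Adjoint
import Groth.Agent.FunFld.CoordChange
import Groth.Agent.FunFld.TangentApps

/-! The adjoint coefficient at a finite point of a monic plane equation. -/

namespace Groth.Agent.FunFld.AdjCoeff

open _root_.FunFld WithZero IsLocalRing
open MvPolynomial (pderiv)

variable {k K : Type*} [Field k] [IsAlgClosed k] [Field K] [Algebra k K]

theorem pole_bound {x y : K} {e : ℕ} {g : MvPolynomial (Fin 3) k} (hg : g.IsHomogeneous e)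
    (hrel : MvPolynomial.aeval ![(1 : K), x, y] g = 0) (htop : MvPolynomial.eval ![0, 0, 1] g ≠ 0)
    (R : Place k K) : R.1 y ≤ max 1 (R.1 x) := by
  by_contra hlt
  rw [not_le, max_lt_iff] at hlt
  have hy0 : y ≠ 0 := fun e => by rw [e, map_zero] at hlt; exact not_lt_zero hlt.1
  have hyp : 0 < R.1 y := zero_lt_iff.2 fun e => hy0 ((map_eq_zero R.1).1 e)
  have hrat := rel_of_homogeneous (φ := ![(1 : K), x, y]) (j := 2) (by simpa using hy0) hg hrel
  refine htop (eval_eq_zero_of_rel (P := R) (φ := ![(1 : K), x, y]) (j := 2) (fun i => ?_) ?_)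
  · refine (lt_one_iff_le R).1 ?_
    fin_cases i
    · simp only [Fin.mk_zero, Fin.zero_eta, Matrix.cons_val_zero, map_zero, sub_zero]
      rw [map_div₀, map_one, show (![(1 : K), x, y] 2) = y from rfl, div_lt_one₀ hyp]
      exact hlt.1
    · simp only [Fin.mk_one, Matrix.cons_val_one, Matrix.cons_val_zero, map_zero, sub_zero]
      rw [map_div₀, show (![(1 : K), x, y] 2) = y from rfl, div_lt_one₀ hyp]
      exact hlt.2
    · simp [hy0]
  · rw [hrat, map_zero]; exact zero_lt_one

theorem val_aeval_of_mem {Q : Place k K} {x y : K} (hx : Q.1 x ≤ 1) (hy : Q.1 y ≤ 1) {z : K}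
    (hz : z ∈ Algebra.adjoin k (Set.range ![(1 : K), x, y])) : Q.1 z ≤ 1 := by
  induction hz using Algebra.adjoin_induction with
  | mem z hz =>
    obtain ⟨i, rfl⟩ := hz
    fin_cases i
    · simp
    · exact hx
    · exact hy
  | algebraMap c => exact Q.2.1 c
  | add a b _ _ ha hb => exact (Q.1.map_add _ _).trans (max_le ha hb)
  | mul a b _ _ ha hb => rw [map_mul]; exact mul_le_one' ha hb

theorem finite_point (hK : IsFunctionField k K) {x y : K}
    (hxy : IntermediateField.adjoin k ({x, y} : Set K) = ⊤) {e : ℕ} {g : MvPolynomial (Fin 3) k}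
    (hg : g.IsHomogeneous e) (hirr : Irreducible g) (hrel : MvPolynomial.aeval ![(1 : K), x, y] g = 0)
    (htop : MvPolynomial.eval ![0, 0, 1] g ≠ 0)
    (hgy : MvPolynomial.aeval ![(1 : K), x, y] (pderiv 2 g) ≠ 0)
    (hdeg : (mapDiv k ![(1 : K), x, y]).deg = e) (Q : Place k K) (hQx : Q.1 x < 1) (hQy : Q.1 y < 1)
    {t : K} (ht : Q.1 t = exp (-1)) {H : K →ₐ[k] PowerSeries K} (hH : LocRes.IsHasseFamily t H)
    (hDx : hasseDer hH x ≠ 0) :
    Q.ord (hasseDer hH x) ≤ Q.ord (MvPolynomial.aeval ![(1 : K), x, y] (pderiv 2 g)) ∧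
      (Q.ord (MvPolynomial.aeval ![(1 : K), x, y] (pderiv 2 g)) = Q.ord (hasseDer hH x) ↔
        IsNonsingularAt ![(1 : K), x, y] Q) := by
  classical
  set φ : Fin 3 → K := ![(1 : K), x, y] with hφdef
  have htr : Transcendental k x := by
    refine transcendental_of_not_mem hK ?_
    rintro ⟨c, hc⟩
    rw [← hc, Derivation.map_algebraMap] at hDx
    exact hDx rfl
  haveI := finite_adjoin hK htr
  set K0 := IntermediateField.adjoin k ({x} : Set K) with hK0def
  set x0 : K0 := ⟨x, IntermediateField.mem_adjoin_simple_self k x⟩ with hx0def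
  have hgen : IntermediateField.adjoin k ({x0} : Set K0) = ⊤ := by
    apply IntermediateField.lift_injective K0
    rw [IntermediateField.lift_adjoin_simple, IntermediateField.lift_top]
  have htr0 : Transcendental k x0 := fun h => htr (by simpa using h.algHom K0.val)
  have hK0 : IsFunctionField k K0 := by
    refine ⟨⟨x0, htr0, ?_⟩, fun z hz => ?_⟩
    · rw [hgen]
      exact Module.Finite.of_surjective (Algebra.linearMap (⊤ : IntermediateField k K0) K0) fun z => ⟨⟨z, trivial⟩, rfl⟩
    · obtain ⟨c, hc⟩ := hK.2 (z : K) (by simpa using hz.algHom K0.val)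
      exact ⟨c, Subtype.ext hc⟩
  have hxcast : algebraMap K0 K x0 = x := rfl
  -- the place below
  obtain ⟨P, hP⟩ := exists_below (K := K0) Q
  have hx0ne : x0 ≠ 0 := ne_zero_of_tr htr0
  have hPlt : P.1 x0 < 1 := (val_lt_one_iff hP x0).1 hQx
  have hP1 : P.1 x0 = exp (-1) := by
    have hu : IntermediateField.adjoin k ({x0⁻¹} : Set K0) = ⊤ := by
      rw [eq_top_iff, ← hgen, IntermediateField.adjoin_simple_le_iff]
      have := inv_mem (IntermediateField.mem_adjoin_simple_self k x0⁻¹)
      rwa [inv_inv] at this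
    obtain ⟨-, -, P1, -, h2, h3⟩ := rational_props hK0 hu
    have hpos := (ord_pos_iff P hx0ne).2 hPlt
    have hPP : P = P1 := by
      by_contra hne
      have := h3 P hne
      rw [ord_inv] at this
      omega
    rw [val_eq_exp P hx0ne, hPP]
    rw [ord_inv] at h2
    rw [show P1.ord x0 = 1 by omega]
  set S := placesOver hK0 K P
  have hQS : Q ∈ S := (mem_placesOver hK0).2 hP
  have hSx : ∀ R ∈ S, R.1 x < 1 := fun R hR => (val_lt_one_iff ((mem_placesOver hK0).1 hR) x0).2 hPlt
  have hbound := pole_bound hg hrel htop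
  have hSy : ∀ R ∈ S, R.1 y ≤ 1 := fun R hR => (hbound R).trans (max_le le_rfl (hSx R hR).le)
  -- the degree
  have hfin : Module.finrank K0 K = e := by
    have hE : poles k x = mapDiv k φ := by
      refine Finsupp.ext fun R => le_antisymm ?_ ?_
      · rw [poles_apply hK]
        refine max_le ?_ (plane_mapDiv_nonneg hK (x := x) (y := y) R)
        have h1 := val_le_exp_mapDiv hK φ R 1
        rw [show φ 1 = x from rfl, le_exp_iff R (ne_zero_of_tr htr)] at h1
        omega
      · obtain ⟨i, hi⟩ := exists_val_eq_exp_mapDiv hK φ (i₀ := 0) rfl R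
        have h2 : R.1 (φ i) ≤ max 1 (R.1 x) := by
          fin_cases i
          · simp [φ]
          · exact le_max_right _ _
          · exact hbound R
        rw [hi, val_eq_exp R (ne_zero_of_tr htr), ← exp_zero] at h2
        rw [poles_apply hK]
        rcases le_max_iff.1 h2 with h | h <;> rw [exp_le_exp] at h <;> omega
    have h := deg_poles hK htr
    rw [hE, hdeg] at h
    exact_mod_cast h.symm
  have he1 : 1 ≤ e := hfin ▸ Module.finrank_pos
  -- the minimal polynomial
  set G : Polynomial K0 := (affHom g).map (Polynomial.aeval (R := k) x0).toRingHom with hG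
  have hι : Function.Injective (Polynomial.aeval (R := k) x0).toRingHom := transcendental_iff_injective.1 htr0
  have hGy : Polynomial.aeval y G = 0 := by rw [hG, aeval_affHom x0 y g, hxcast]; exact hrel
  have hGy' : Polynomial.aeval y G.derivative = MvPolynomial.aeval φ (pderiv 2 g) := by
    rw [hG, Polynomial.derivative_map, affHom_derivative, aeval_affHom x0 y, hxcast]
  set a := MvPolynomial.eval ![0, 0, 1] g with hadef
  have ha0 : algebraMap k K0 a ≠ 0 := by simpa using htop
  have hGc : G.coeff e = algebraMap k K0 a := by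
    rw [hG, Polynomial.coeff_map, (affHom_top hg).2]; simp [hadef]
  have hGd : G.natDegree = e := by
    refine le_antisymm ?_ (Polynomial.le_natDegree_of_ne_zero (hGc ▸ ha0))
    rw [hG, Polynomial.natDegree_map_eq_of_injective hι]
    exact (affHom_top hg).1
  set M : Polynomial K0 := Polynomial.C (algebraMap k K0 a)⁻¹ * G with hM
  have hMd : M.natDegree = e := by rw [hM, Polynomial.natDegree_C_mul (inv_ne_zero ha0), hGd]
  have hMmon : M.Monic := by
    refine Polynomial.monic_of_natDegree_le_of_coeff_eq_one e hMd.le ?_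
    rw [hM, Polynomial.coeff_C_mul, hGc, inv_mul_cancel₀ ha0]
  have hMy : Polynomial.aeval y M = 0 := by rw [hM, map_mul, hGy, mul_zero]
  have hint : IsIntegral K0 y := IsIntegral.of_finite K0 y
  have hgenK : IntermediateField.adjoin K0 ({y} : Set K) = ⊤ := by
    apply IntermediateField.restrictScalars_injective k
    rw [IntermediateField.restrictScalars_top, eq_top_iff, ← hxy, IntermediateField.adjoin_le_iff]
    rintro w (rfl | rfl)
    · exact IntermediateField.algebraMap_mem (IntermediateField.adjoin K0 ({y} : Set K)) x0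
    · exact IntermediateField.mem_adjoin_simple_self K0 w
  have hmind : (minpoly K0 y).natDegree = e := by
    have := IntermediateField.adjoin.finrank hint
    rw [hgenK, IntermediateField.finrank_top', hfin] at this
    exact this.symm
  have hmin : minpoly K0 y = M := by
    refine (Polynomial.eq_of_monic_of_dvd_of_natDegree_le (minpoly.monic hint) hMmon (minpoly.dvd K0 y hMy) ?_).symm
    rw [hMd, hmind]
  have hMy' : Polynomial.aeval y M.derivative = algebraMap k K a⁻¹ * MvPolynomial.aeval φ (pderiv 2 g) := by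
    rw [hM, Polynomial.derivative_C_mul, map_mul, Polynomial.aeval_C, hGy', ← map_inv₀,
      ← IsScalarTower.algebraMap_apply]
  have hainv : algebraMap k K a⁻¹ ≠ 0 := by simpa using htop
  have hne : Polynomial.aeval y M.derivative ≠ 0 := by rw [hMy']; exact mul_ne_zero hainv hgy
  haveI : Algebra.IsSeparable K0 K := by
    have hsep : IsSeparable K0 y := by
      rw [IsSeparable, hmin, Polynomial.separable_iff_derivative_ne_zero (hmin ▸ minpoly.irreducible hint)]
      intro h0
      exact hne (by rw [h0, map_zero])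
    have h1 := (IntermediateField.isSeparable_adjoin_simple_iff_isSeparable K0 K).2 hsep
    rw [hgenK] at h1
    exact Algebra.IsSeparable.of_algHom K0 (⊤ : IntermediateField K0 K) IntermediateField.topEquiv.symm.toAlgHom
  -- the local ring
  set R := Algebra.adjoin k (Set.range φ) with hR
  set L := locAlg R Q
  have hxR : x ∈ R := Algebra.subset_adjoin ⟨1, rfl⟩
  have hyR : y ∈ R := Algebra.subset_adjoin ⟨2, rfl⟩
  have hR1 : ∀ z ∈ R, Q.1 z ≤ 1 := fun z hz => val_aeval_of_mem hQx.le hQy.le hz
  have hpolyR : ∀ p : Polynomial k, algebraMap K0 K (Polynomial.aeval x0 p) ∈ R := fun p => by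
    rw [← Polynomial.aeval_algebraMap_apply, hxcast]
    exact Polynomial.aeval_mem_adjoin_singleton k x |> fun h =>
      Algebra.adjoin_mono (Set.singleton_subset_iff.2 (show x ∈ Set.range φ from ⟨1, rfl⟩)) h
  have hcoefL : ∀ b : K0, P.1 b ≤ 1 → algebraMap K0 K b ∈ L := by
    intro b hb
    obtain ⟨r, s, hrs⟩ := (IntermediateField.mem_adjoin_simple_iff k (b : K0)).1
      (hgen ▸ IntermediateField.mem_top)
    rcases eq_or_ne r 0 with rfl | hr
    · rw [hrs, map_zero, zero_div, map_zero]; exact zero_mem L
    rcases eq_or_ne s 0 with rfl | hs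
    · rw [hrs, map_zero, div_zero, map_zero]; exact zero_mem L
    have hv : ∀ p : Polynomial k, p ≠ 0 → P.1 (Polynomial.aeval x0 p) = exp (-(p.rootMultiplicity 0 : ℤ)) :=
      fun p hp => val_aeval_rootMultiplicity (by rw [map_zero, sub_zero]; exact hP1) hp
    obtain ⟨n, hn⟩ : ∃ n, n = s.rootMultiplicity 0 := ⟨_, rfl⟩
    have hle : n ≤ r.rootMultiplicity 0 := by
      rw [hrs, map_div₀, hv r hr, hv s hs, div_le_one₀ exp_pos, exp_le_exp] at hb
      omega
    obtain ⟨s', hs'⟩ := hn ▸ Polynomial.pow_rootMultiplicity_dvd s 0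
    obtain ⟨r', hr'⟩ := (pow_dvd_pow (Polynomial.X - Polynomial.C (0 : k)) hle).trans
      (Polynomial.pow_rootMultiplicity_dvd r 0)
    have hxn : Polynomial.aeval x0 ((Polynomial.X - Polynomial.C (0 : k)) ^ n) ≠ 0 := by
      simp [hx0ne]
    have hs1 : P.1 (Polynomial.aeval x0 s') = 1 := by
      have h1 := hv s hs
      rw [← hn, hs', map_mul, map_mul, map_pow, map_pow, map_sub, Polynomial.aeval_X, Polynomial.aeval_C, map_zero,
        sub_zero, hP1, ← exp_nsmul, nsmul_eq_mul, mul_neg, mul_one] at h1
      exact (mul_eq_left₀ exp_ne_zero).1 h1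
    refine ⟨_, hpolyR r', _, hpolyR s', ?_, ?_⟩
    · rw [isOverWith_of_isOver hP, hs1, one_pow]
    · rw [← map_mul]
      refine congrArg _ ?_
      rw [hrs, hr', hs', map_mul, map_mul, mul_div_mul_left _ _ hxn,
        div_mul_cancel₀ _ (fun h => by simp [h] at hs1)]
  -- Euler
  have hli : LinearIndependent K0 fun i : Fin e => y ^ (i : ℕ) :=
    (linearIndependent_pow (K := K0) y).comp (Fin.cast hmind.symm) (Fin.cast_injective _)
  haveI : Nonempty (Fin e) := ⟨⟨0, he1⟩⟩
  let by' : Module.Basis (Fin e) K0 K := basisOfLinearIndependentOfCardEqFinrank hli (by rw [Fintype.card_fin, hfin])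
  have hby : ∀ i, by' i = y ^ (i : ℕ) := fun i => by simp [by']
  let pb : PowerBasis K0 K := { gen := y, dim := e, basis := by', basis_eq_pow := hby }
  have hMcoef : ∀ i, algebraMap K0 K (M.coeff i) ∈ R := fun i => by
    rw [hM, hG, Polynomial.coeff_C_mul, Polynomial.coeff_map, map_mul, ← map_inv₀, ← IsScalarTower.algebraMap_apply]
    exact mul_mem (R.algebraMap_mem _) (hpolyR _)
  have hdivc : ∀ r j : ℕ, e ≤ j + r → (minpolyDiv K0 y).coeff j ∈ R := by
    intro r
    induction r with
    | zero =>
      intro j hj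
      rw [Polynomial.coeff_eq_zero_of_natDegree_lt]
      · exact zero_mem R
      · exact (natDegree_minpolyDiv_lt hint).trans_le (by omega)
    | succ r ih =>
      intro j hj
      rw [coeff_minpolyDiv, hmin]
      exact add_mem (hMcoef _) (mul_mem (ih (j + 1) (by omega)) hyR)
  have heuler : ∀ h : K, (∀ i : Fin e, P.1 (Algebra.trace K0 K (h * y ^ (i : ℕ))) ≤ 1) →
      h * Polynomial.aeval y M.derivative ∈ L := by
    intro h hh
    conv => congr; · skip
            · arg 1; rw [← by'.traceDual.sum_repr h]
    rw [Finset.sum_mul]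
    refine sum_mem fun i _ => ?_
    rw [Algebra.smul_def, Module.Basis.traceDual_repr_apply, Algebra.traceForm_apply, hby,
      show by'.traceDual i = pb.basis.traceDual i from rfl, Module.Basis.traceDual_powerBasis_eq, mul_assoc]
    refine mul_mem (hcoefL _ (hh i)) (le_locAlg R Q ?_)
    show (minpolyDiv K0 y).coeff (i : ℕ) / Polynomial.aeval y (Polynomial.derivative (minpoly K0 y)) * _ ∈ R
    rw [hmin, div_mul_cancel₀ _ hne]
    exact hdivc e i (by omega)
  -- an element with the largest poles
  obtain ⟨Φ, hΦ⟩ := exists_expansion hK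
  set d : Place k K → ℤ := fun T => LocRes.ordDiff (Φ T) 1 (algebraMap K0 K x0) with hd
  have hdQ : d Q = Q.ord (hasseDer hH x) := by
    show LocRes.ordDiff (Φ Q) 1 (algebraMap K0 K x0) = _
    rw [ordDiff_eq hK ht hH (hΦ Q), one_mul, hxcast, hasseDer_apply]
  obtain ⟨aQ, haQ⟩ := exists_val Q (d Q)
  set N : ℤ := -(∑ T ∈ S, |d T|) - 1 with hN
  have hNle : ∀ T ∈ S, N < d T := fun T hT => by
    have := Finset.single_le_sum (f := fun T => |d T|) (fun T _ => abs_nonneg (d T)) hT
    have := neg_abs_le (d T)
    omega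
  obtain ⟨w, hw⟩ := exists_approx S (fun T => if T = Q then aQ else 0) N
  have hwQ : Q.1 w = exp (d Q) := by
    have h1 := hw Q hQS
    rw [if_pos rfl] at h1
    rw [show w = aQ + (w - aQ) by ring, Valuation.map_add_eq_of_lt_left, haQ]
    rw [haQ]
    exact h1.trans_lt (exp_lt_exp.2 (hNle Q hQS))
  have hwS : ∀ T ∈ S, Q.1 w ≤ exp (d Q) ∧ T.1 w ≤ exp (d T) := fun T hT => by
    refine ⟨hwQ.le, ?_⟩
    rcases eq_or_ne T Q with rfl | hne'
    · exact hwQ.le
    · have h1 := hw T hT
      rw [if_neg hne', sub_zero] at h1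
      exact h1.trans (exp_le_exp.2 (hNle T hT).le)
  have hall : ∀ z : K, (∀ T ∈ S, T.1 z ≤ 1) → w * z * Polynomial.aeval y M.derivative ∈ L := fun z hz =>
    heuler _ fun i => trace_le_one_of_le_ordDiff hK0 hK hP1 hgen Φ hΦ fun T hT => by
      rw [map_mul, map_mul, map_pow]
      exact (mul_le_mul' (mul_le_mul' (hwS T hT).2 (hz T hT)) (pow_le_one' (hSy T hT) _)).trans_eq
        (by rw [mul_one, mul_one])
  set gy := MvPolynomial.aeval φ (pderiv 2 g) with hgydef
  have hval : Q.1 (Polynomial.aeval y M.derivative) = exp (-Q.ord gy) := by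
    rw [hMy', map_mul, val_algebraMap Q (inv_ne_zero htop), one_mul, val_eq_exp Q hgy]
  have hw1 := hall 1 fun T _ => (map_one T.1).le
  rw [mul_one] at hw1
  have hineq : Q.ord (hasseDer hH x) ≤ Q.ord gy := by
    have h1 := locAlg_val_le hR1 hw1
    rw [map_mul, hwQ, hval, ← exp_add, ← exp_zero, exp_le_exp, hdQ] at h1
    omega
  refine ⟨hineq, fun heq => ?_, fun hns => ?_⟩
  · -- equality gives nonsingularity
    intro z hz
    have hmax : ∀ i, Q.1 (φ i) ≤ Q.1 (φ 0) := fun i => by
      rw [show φ 0 = 1 from rfl, map_one]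
      exact hR1 _ (Algebra.subset_adjoin ⟨i, rfl⟩)
    suffices hzL : z ∈ L by
      obtain ⟨u, hu, v, hv, hv1, h⟩ := hzL
      refine ⟨0, one_ne_zero, hmax, u, ?_, v, ?_, hv1, h⟩
      all_goals
        rw [show (fun i => φ i / φ 0) = φ from funext fun i => div_one _]
        assumption
    set N' : ℤ := -(∑ T ∈ S, |T.ord z|) - 1
    have hN' : ∀ T ∈ S, N' < 0 ∧ N' ≤ T.ord z := fun T hT => by
      have := Finset.single_le_sum (f := fun T : Place k K => |T.ord z|) (fun T _ => abs_nonneg _) hT
      have := neg_abs_le (T.ord z)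
      have := abs_nonneg (T.ord z)
      omega
    obtain ⟨u, hu⟩ := exists_approx S (fun T => if T = Q then 1 else 0) N'
    have huQ : Q.1 u = 1 := by
      have h1 := hu Q hQS
      rw [if_pos rfl] at h1
      rw [show u = 1 + (u - 1) by ring, Valuation.map_add_eq_of_lt_left, map_one]
      rw [map_one]
      exact h1.trans_lt (by rw [← exp_zero, exp_lt_exp]; exact (hN' Q hQS).1)
    have huS : ∀ T ∈ S, T.1 u ≤ 1 ∧ T.1 (z * u) ≤ 1 := fun T hT => by
      rcases eq_or_ne T Q with rfl | hne'
      · exact ⟨huQ.le, by rw [map_mul, huQ, mul_one]; exact hz⟩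
      have h1 := hu T hT
      rw [if_neg hne', sub_zero] at h1
      refine ⟨h1.trans (by rw [← exp_zero, exp_le_exp]; exact (hN' T hT).1.le), ?_⟩
      rcases eq_or_ne z 0 with rfl | hz0
      · simp
      rw [map_mul, val_eq_exp T hz0]
      refine (mul_le_mul' le_rfl h1).trans ?_
      rw [← exp_add, ← exp_zero, exp_le_exp]
      have := (hN' T hT).2
      omega
    have h3 := div_mem_locAlg (hall (z * u) fun T hT => (huS T hT).2) (hall u fun T hT => (huS T hT).1) (by
      rw [map_mul, map_mul, huQ, mul_one, hwQ, hval, hdQ, heq, ← exp_add, add_neg_cancel, exp_zero])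
    have hw0 : w ≠ 0 := fun h => exp_ne_zero (a := d Q) (by rw [← hwQ, h, map_zero])
    have hu0 : u ≠ 0 := fun h => by simp [h] at huQ
    rwa [show w * (z * u) * Polynomial.aeval y M.derivative / (w * u * Polynomial.aeval y M.derivative) = z by
      field_simp] at h3
  · -- nonsingularity gives equality
    set D := hasseDer hH with hD
    have hDle : ∀ z : K, Q.1 z ≤ 1 → Q.1 (D z) ≤ 1 := fun z hz => by
      rw [hD, hasseDer_apply]; exact val_hasseD_le hK ht hH hz 1
    have hordD : 0 ≤ Q.ord (D x) := (ord_nonneg_iff Q hDx).2 (hDle x hQx.le)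
    rcases eq_or_lt_of_le he1 with he | he
    · have h0 : Q.ord gy = 0 := by
        have hM1 : M.derivative = 1 := by
          rw [hMmon.eq_X_add_C (hMd.trans he.symm)]
          simp
        rw [hM1, map_one, map_one, ← exp_zero, exp_inj] at hval
        omega
      omega
    have hli3 : LinearIndependent k φ := by
      rw [Fintype.linearIndependent_iff]
      intro c hc
      rw [Fin.sum_univ_three] at hc
      simp only [φ, Matrix.cons_val_zero, Matrix.cons_val_one, Matrix.cons_val_two, Matrix.tail_cons,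
        Matrix.head_cons, Algebra.smul_def, mul_one] at hc
      have h2 : c 2 = 0 := by
        by_contra h2
        have hy0 : y ∈ K0 := by
          have hy : y = -(algebraMap k K (c 0) + algebraMap k K (c 1) * x) / algebraMap k K (c 2) := by
            rw [eq_div_iff (by simpa using h2)]
            linear_combination hc
          rw [hy]
          exact div_mem (neg_mem (add_mem (K0.algebraMap_mem _)
            (mul_mem (K0.algebraMap_mem _) x0.2))) (K0.algebraMap_mem _)
        have := minpoly.natDegree_le y (A := K0)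
        have h4 : (minpoly K0 y).natDegree = 1 := by
          rw [show y = algebraMap K0 K ⟨y, hy0⟩ from rfl, minpoly.eq_X_sub_C, Polynomial.natDegree_X_sub_C]
        omega
      rw [h2, map_zero, zero_mul, add_zero] at hc
      have h1 : c 1 = 0 := by
        by_contra h1
        refine htr ?_
        have hx : x = algebraMap k K (-(c 0) / c 1) := by
          rw [map_div₀, map_neg, eq_div_iff (by simpa using h1)]
          linear_combination hc
        rw [hx]; exact isAlgebraic_algebraMap _
      rw [h1, map_zero, zero_mul, add_zero, map_eq_zero] at hc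
      intro i; fin_cases i <;> assumption
    have hmax : ∀ i, Q.1 (φ i) ≤ Q.1 (φ 0) := fun i => by
      rw [show φ 0 = 1 from rfl, map_one]
      exact hR1 _ (Algebra.subset_adjoin ⟨i, rfl⟩)
    have hbir : IntermediateField.adjoin k (Set.range fun i => φ i / φ 0) = ⊤ := by
      rw [eq_top_iff, ← hxy]
      refine IntermediateField.adjoin.mono k _ _ ?_
      rintro v (rfl | rfl)
      · exact ⟨1, div_one _⟩
      · exact ⟨2, div_one _⟩
    let av : Fin 3 → Q.O := fun i => ⟨φ i / φ 0, by
      rw [show φ i / φ 0 = φ i from div_one _]; exact hR1 _ (Algebra.subset_adjoin ⟨i, rfl⟩)⟩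
    have hsing := plane_singular_iff hK φ hli3 hbir g hirr hg hrel Q 0 hmax av fun i => rfl
    have hc : ∀ i, Q.1 (φ i / φ 0 - algebraMap k K (![(1 : k), 0, 0] i)) ≤ exp (-1) := fun i => by
      refine (lt_one_iff_le Q).1 ?_
      fin_cases i
      · simp [φ]
      · simpa [φ] using hQx
      · simpa [φ] using hQy
    have hlt : (exp (-1) : WithZero (Multiplicative ℤ)) < 1 := by rw [← exp_zero, exp_lt_exp]; omega
    have hphi : (fun i => φ i / φ 0) = φ := funext fun i => div_one _
    have hunit : ∀ l, MvPolynomial.eval ![(1 : k), 0, 0] (pderiv l g) ≠ 0 →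
        Q.1 (MvPolynomial.aeval φ (pderiv l g)) = 1 := fun l hl => by
      have h1 := eval_of_rel hc (pderiv l g)
      rw [hphi] at h1
      exact val_eq_one_of_const (h1.trans_lt hlt) hl
    by_cases h2 : MvPolynomial.eval ![(1 : k), 0, 0] (pderiv 2 g) = 0
    swap
    · have h0 : Q.ord gy = 0 := by
        have := hunit 2 h2
        rw [← hgydef, val_eq_exp Q hgy, ← exp_zero, exp_inj] at this
        omega
      omega
    have h1 : MvPolynomial.eval ![(1 : k), 0, 0] (pderiv 1 g) ≠ 0 := by
      intro h1
      refine hsing.2 (fun l => ?_) hns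
      rw [aeval_residue Q av ![(1 : k), 0, 0] (fun i => (hc i).trans_lt hlt)]
      have h0 := euler_eval hg ![(1 : k), 0, 0] (eval_eq_zero_of_rel hc (by rw [hphi, hrel, map_zero]; exact zero_lt_one))
      simp [Fin.sum_univ_three] at h0
      fin_cases l
      · simp [h0]
      · simp [h1]
      · simp [h2]
    have hgy1 : Q.1 gy < 1 := by
      have := eval_of_rel hc (pderiv 2 g)
      rw [hphi, h2, map_zero, sub_zero] at this
      exact this.trans_lt hlt
    have hdiff : MvPolynomial.aeval φ (pderiv 1 g) * D x + gy * D y = 0 := by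
      have h := CoordChange.derivation_aeval D φ g
      rw [hrel, map_zero, Fin.sum_univ_three] at h
      simpa [φ, hgydef] using h.symm
    have hDxval : Q.1 (D x) = Q.1 gy * Q.1 (D y) := by
      have h := congrArg Q.1 (eq_neg_of_add_eq_zero_left hdiff)
      rwa [map_mul, hunit 1 h1, one_mul, Valuation.map_neg, map_mul] at h
    have hDxlt : Q.1 (D x) < 1 := by
      rw [hDxval]
      exact lt_of_le_of_lt (mul_le_mul' le_rfl (hDle y hQy.le)) (by rwa [mul_one])
    have hDy : Q.1 (D y) = 1 := by
      refine le_antisymm (hDle y hQy.le) (le_of_not_gt fun hlt' => ?_)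
      have hDR : ∀ z ∈ R, Q.1 (D z) < 1 := by
        intro z hz
        induction hz using Algebra.adjoin_induction with
        | mem z hz =>
          obtain ⟨i, rfl⟩ := hz
          fin_cases i
          · simp [φ]
          · exact hDxlt
          · exact hlt'
        | algebraMap c => simp
        | add p q _ _ hp hq => rw [map_add]; exact (Q.1.map_add _ _).trans_lt (max_lt hp hq)
        | mul p q hp' hq' hp hq =>
          rw [Derivation.leibniz, smul_eq_mul, smul_eq_mul]
          refine (Q.1.map_add _ _).trans_lt (max_lt ?_ ?_) <;> rw [map_mul]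
          · exact lt_of_le_of_lt (mul_le_mul' (hR1 p hp') le_rfl) (by rwa [one_mul])
          · exact lt_of_le_of_lt (mul_le_mul' (hR1 q hq') le_rfl) (by rwa [one_mul])
      obtain ⟨j, hj0, hj, u, hu, v, hv, hv1, h⟩ := hns t (ht.le.trans hlt.le)
      have hj' : j = 0 := by
        fin_cases j
        · rfl
        · exfalso; have := hj 0; simp [φ] at this; exact (hQx.trans_le this).false
        · exfalso; have := hj 0; simp [φ] at this; exact (hQy.trans_le this).false
      subst hj'
      rw [hphi] at hu hv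
      have h5 := hDR u hu
      rw [← h, Derivation.leibniz, hasseDer_self, smul_eq_mul, smul_eq_mul, mul_one] at h5
      have h6 : Q.1 (t * D v) < 1 := by
        rw [map_mul]
        exact lt_of_le_of_lt (mul_le_mul' le_rfl (hDle v (hR1 v hv))) (by rw [mul_one, ht]; exact hlt)
      rw [Valuation.map_add_eq_of_lt_right _ (by rwa [hv1]), hv1] at h5
      exact h5.false
    rw [hDy, mul_one, val_eq_exp Q hDx, val_eq_exp Q hgy, exp_inj] at hDxval
    omega

end Groth.Agent.FunFld.AdjCoeff
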